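import Groth.Agent.L08.FinFlat.Norm
import Groth.Prelude.Def_CoactBr2
import Mathlib.RingTheory.Flat.Equalizer
import Mathlib.RingTheory.LocalRing.Module
import Mathlib.RingTheory.Polynomial.ScaleRoots
import Mathlib.RingTheory.Localization.BaseChange
import Mathlib.RingTheory.TensorProduct.Finite

/-!
# Conjugacy of geometric points and integrality over invariants for a finite flat group scheme
-/

universe u v w w'

open TensorProduct Polynomial

noncomputable section

namespace Groth.L08.FinFlat

variable {R : Type u} [CommRing R] {A : Type u} [CommRing A] [HopfAlgebra R A]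
  {B : Type u} [CommRing B] [Algebra R B] [HopfRep.Comod R A B] [GLin.IsCoactAlg R A B]

section BC

variable (S : Type u) [CommRing S] [Algebra R S]

theorem invariants_baseChange [Module.Flat R S] :
    letI := CoactBr.Comod.baseChange R S A B
    haveI := CoactBr.isCoactAlg_baseChange R S A B
    ∀ u ∈ GLin.invariants S (S ⊗[R] A) (S ⊗[R] B),
      u ∈ Submodule.span S {z : S ⊗[R] B | ∃ d ∈ GLin.invariants R A B, z = 1 ⊗ₜ[R] d} := by
  letI := CoactBr.Comod.baseChange R S A B
  haveI := CoactBr.isCoactAlg_baseChange R S A B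
  intro u hu
  let f : B →ₗ[R] B ⊗[R] A := HopfRep.Comod.coact (k := R) (A := A)
  let g : B →ₗ[R] B ⊗[R] A := (TensorProduct.mk R B A).flip 1
  let c : S ⊗[R] B →ₗ[S] (S ⊗[R] B) ⊗[S] (S ⊗[R] A) := (CoactBr.Comod.baseChange R S A B).coact
  let Θ := AlgebraTensorModule.distribBaseChange R S B A
  have hc : c = Θ.toLinearMap ∘ₗ AlgebraTensorModule.lTensor S S f := by
    refine AlgebraTensorModule.ext fun s v => ?_
    change (CoactBr.Comod.baseChange R S A B).coact (s ⊗ₜ[R] v) =
      Θ (s ⊗ₜ[R] HopfRep.Comod.coact (k := R) (A := A) v)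
    rw [CoactBr.baseChange_coact_tmul]
    induction HopfRep.Comod.coact (k := R) (A := A) v with
    | zero => simp
    | add a b ha hb => simp only [tmul_add, map_add, ha, hb]
    | tmul x a =>
      change ((1 : S) ⊗ₜ[R] x) ⊗ₜ[S] (s ⊗ₜ[R] a) = (s ⊗ₜ[R] x) ⊗ₜ[S] ((1 : S) ⊗ₜ[R] a)
      rw [show s ⊗ₜ[R] a = s • ((1 : S) ⊗ₜ[R] a) by rw [smul_tmul', smul_eq_mul, mul_one],
        show s ⊗ₜ[R] x = s • ((1 : S) ⊗ₜ[R] x) by rw [smul_tmul', smul_eq_mul, mul_one],
        ← smul_tmul]
  have hg : ∀ x : S ⊗[R] B, x ⊗ₜ[S] (1 : S ⊗[R] A) = Θ (AlgebraTensorModule.lTensor S S g x) := by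
    intro x
    induction x with
    | zero => simp
    | add a b ha hb => simp only [map_add, add_tmul, ha, hb]
    | tmul s v => rfl
  have h1 : u ∈ LinearMap.eqLocus (AlgebraTensorModule.lTensor S S f) (AlgebraTensorModule.lTensor S S g) := by
    have hu' : c u = u ⊗ₜ[S] (1 : S ⊗[R] A) := hu
    rw [hc, hg, LinearMap.comp_apply, LinearEquiv.coe_coe] at hu'
    exact Θ.injective hu'
  rw [Module.Flat.eqLocus_lTensor_eq] at h1
  obtain ⟨z, rfl⟩ := h1
  clear hu
  induction z with
  | zero => simp
  | add a b ha hb => rw [map_add]; exact add_mem ha hb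
  | tmul s d =>
    rw [AlgebraTensorModule.lTensor_tmul, show s ⊗ₜ[R] (LinearMap.eqLocus f g).subtype d =
      s • ((1 : S) ⊗ₜ[R] (d : B)) by rw [smul_tmul', smul_eq_mul, mul_one]; rfl]
    exact Submodule.smul_mem _ _ (Submodule.subset_span ⟨d, d.2, rfl⟩)

theorem coact_baseChange_one_tmul (b : B) :
    letI := CoactBr.Comod.baseChange R S A B
    haveI := CoactBr.isCoactAlg_baseChange R S A B
    ∀ {T : Type u} [CommRing T] [Algebra R T] [Algebra S T] [IsScalarTower R S T]
      (x : S ⊗[R] B →ₐ[S] T) (g : S ⊗[R] A →ₐ[S] T),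
      Algebra.TensorProduct.lift x g (fun _ _ => .all _ _) (GLin.coactAlgHom S (S ⊗[R] A) (S ⊗[R] B) (1 ⊗ₜ b)) =
        Algebra.TensorProduct.lift ((x.restrictScalars R).comp Algebra.TensorProduct.includeRight)
          ((g.restrictScalars R).comp Algebra.TensorProduct.includeRight) (fun _ _ => .all _ _)
          (GLin.coactAlgHom R A B b) := by
  letI := CoactBr.Comod.baseChange R S A B
  haveI := CoactBr.isCoactAlg_baseChange R S A B
  intro T _ _ _ _ x g
  rw [GLin.coactAlgHom_apply, GLin.coactAlgHom_apply]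
  rw [show HopfRep.Comod.coact (k := S) (A := S ⊗[R] A) ((1 : S) ⊗ₜ[R] b) =
    (CoactBr.Comod.baseChange R S A B).coact ((1 : S) ⊗ₜ[R] b) from rfl, CoactBr.baseChange_coact_tmul]
  induction HopfRep.Comod.coact (k := R) (A := A) b with
  | zero => simp
  | add a b ha hb => simp only [tmul_add, map_add, ha, hb]
  | tmul x a =>
    simp only [AlgebraTensorModule.tensorTensorTensorComm_tmul, Algebra.TensorProduct.lift_tmul]
    rfl

end BC

/-- Over an algebraically closed field, two points with the same invariants are moved to each other by a point of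
the group. -/
theorem exists_point_of_flat [Module.Finite R A] [Module.Flat R A] {K : Type u} [Field K] [IsAlgClosed K]
    [Algebra R K] (x₁ x₂ : B →ₐ[R] K) (h : ∀ r ∈ GLin.invariants R A B, x₁ r = x₂ r) :
    ∃ g : A →ₐ[R] K, (Algebra.TensorProduct.lift x₁ g fun _ _ => .all _ _).comp (GLin.coactAlgHom R A B) = x₂ := by
  let q := RingHom.ker (algebraMap R K)
  haveI : q.IsPrime := RingHom.ker_isPrime _
  let S := Localization.AtPrime q
  letI : Algebra S K := (IsLocalization.lift (M := q.primeCompl) (g := algebraMap R K)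
    fun y => isUnit_iff_ne_zero.2 y.2).toAlgebra
  haveI : IsScalarTower R S K := IsScalarTower.of_algebraMap_eq fun r => (IsLocalization.lift_eq _ r).symm
  haveI : Module.Free S (S ⊗[R] A) := Module.free_of_flat_of_isLocalRing
  letI := CoactBr.Comod.baseChange R S A B
  haveI := CoactBr.isCoactAlg_baseChange R S A B
  let L : (B →ₐ[R] K) → (S ⊗[R] B →ₐ[S] K) := fun y =>
    Algebra.TensorProduct.lift (Algebra.ofId S K) y fun _ _ => .all _ _
  obtain ⟨g, hg⟩ := exists_point (k := S) (H := S ⊗[R] A) (R := S ⊗[R] B) (L x₁) (L x₂) fun u hu => by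
    have hsp := invariants_baseChange S u hu
    clear hu
    induction hsp using Submodule.span_induction with
    | mem z hz =>
      obtain ⟨d, hd, rfl⟩ := hz
      simpa [L] using h d hd
    | zero => simp
    | add a b _ _ ha hb => simp only [map_add, ha, hb]
    | smul c a _ ha => simp only [map_smul, ha]
  refine ⟨(g.restrictScalars R).comp Algebra.TensorProduct.includeRight, AlgHom.ext fun b => ?_⟩
  have h1 := (coact_baseChange_one_tmul (A := A) S b (L x₁) g).symm.trans
    (AlgHom.congr_fun hg ((1 : S) ⊗ₜ[R] b))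
  have e : ∀ y : B →ₐ[R] K, ((L y).restrictScalars R).comp Algebra.TensorProduct.includeRight = y :=
    fun y => AlgHom.ext fun r => by simp [L]
  rw [e] at h1
  simpa [L] using h1

variable (R A B) in
/-- `B` is integral over the invariants. -/
theorem isIntegral [Module.Finite R A] [Module.Flat R A] : Algebra.IsIntegral (GLin.invariants R A B) B := by
  refine ⟨fun b => ?_⟩
  let C := GLin.invariants R A B
  let f : C →+* B := algebraMap C B
  let J : Ideal R :=
    { carrier := {r | r • b ∈ integralClosure C B}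
      add_mem' := fun {r r'} hr hr' => by
        show (r + r') • b ∈ integralClosure C B
        rw [add_smul]
        exact add_mem hr hr'
      zero_mem' := by
        show (0 : R) • b ∈ integralClosure C B
        rw [zero_smul]
        exact zero_mem _
      smul_mem' := fun r a (ha : a • b ∈ integralClosure C B) => by
        show (r • a) • b ∈ integralClosure C B
        rw [smul_assoc, Algebra.smul_def]
        exact mul_mem (show algebraMap R B r ∈ integralClosure C B from
          Subalgebra.algebraMap_mem (integralClosure C B) (algebraMap R C r)) ha }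
  suffices hJ : J = ⊤ by
    have h1 : (1 : R) • b ∈ integralClosure C B := ((Ideal.eq_top_iff_one J).1 hJ :)
    rwa [one_smul] at h1
  by_contra hJ
  obtain ⟨q, hq, hJq⟩ := Ideal.exists_le_maximal J hJ
  haveI := hq.isPrime
  let S := Localization.AtPrime q
  haveI : Module.Free S (S ⊗[R] A) := Module.free_of_flat_of_isLocalRing
  letI := CoactBr.Comod.baseChange R S A B
  haveI := CoactBr.isCoactAlg_baseChange R S A B
  let ι : B →ₗ[R] S ⊗[R] B := TensorProduct.mk R S B 1
  haveI : IsLocalizedModule q.primeCompl ι :=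
    (isLocalizedModule_iff_isBaseChange q.primeCompl S ι).2 (TensorProduct.isBaseChange R B S)
  have hclear : ∀ u ∈ GLin.invariants S (S ⊗[R] A) (S ⊗[R] B),
      ∃ t ∈ q.primeCompl, ∃ d ∈ C, t • u = ι d := by
    intro u hu
    have hsp := invariants_baseChange S u hu
    clear hu
    induction hsp using Submodule.span_induction with
    | mem z hz =>
      obtain ⟨d, hd, rfl⟩ := hz
      exact ⟨1, one_mem _, d, hd, one_smul _ _⟩
    | zero => exact ⟨1, one_mem _, 0, zero_mem _, by simp⟩
    | add a b _ _ ha hb =>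
      obtain ⟨t, ht, d, hd, e⟩ := ha
      obtain ⟨t', ht', d', hd', e'⟩ := hb
      refine ⟨t * t', mul_mem ht ht', t' • d + t • d', add_mem (C.smul_mem hd t') (C.smul_mem hd' t), ?_⟩
      rw [map_add, map_smul, map_smul, ← e, ← e', smul_add, smul_smul, smul_smul, mul_comm t t']
    | smul c a _ ha =>
      obtain ⟨t, ht, d, hd, e⟩ := ha
      obtain ⟨⟨r, m⟩, hm⟩ := IsLocalization.surj q.primeCompl c
      refine ⟨m * t, mul_mem m.2 ht, r • d, C.smul_mem hd r, ?_⟩
      rw [map_smul, ← e, smul_comm r t a, ← algebraMap_smul S r a, ← hm, mul_comm c, ← smul_smul (algebraMap R S _) c,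
        algebraMap_smul, smul_smul t, mul_comm t]
  let p := poly (co S (S ⊗[R] A) (S ⊗[R] B) (ι b))
  have hmono : p.Monic := LinearMap.charpoly_monic _
  choose t ht d hd he using fun i => hclear _ (coact_coeff (k := S) (H := S ⊗[R] A) (ι b) i)
  let T : R := ∏ i ∈ Finset.range p.natDegree, t i
  let ψ : C →+* S ⊗[R] B := (Algebra.TensorProduct.includeRight : B →ₐ[R] S ⊗[R] B).toRingHom.comp f
  let T' : S ⊗[R] B := algebraMap R _ T
  have hlift : p.scaleRoots T' ∈ Polynomial.lifts ψ := by
    refine (Polynomial.lifts_iff_coeff_lifts _).2 fun i => ?_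
    rw [coeff_scaleRoots]
    rcases lt_trichotomy i p.natDegree with hi | hi | hi
    · let e : R := (∏ j ∈ (Finset.range p.natDegree).erase i, t j) * T ^ (p.natDegree - i - 1)
      refine ⟨⟨e • d i, C.smul_mem (hd i) _⟩, ?_⟩
      show ι (e • d i) = _
      rw [map_smul, ← he i, smul_smul, ← algebraMap_smul (S ⊗[R] B) (e * t i), smul_eq_mul, mul_comm (p.coeff i)]
      congr 1
      rw [← map_pow, mul_right_comm, Finset.prod_erase_mul _ _ (Finset.mem_range.2 hi), ← pow_succ',
        Nat.sub_add_cancel (Nat.sub_pos_of_lt hi)]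
    · exact ⟨1, by rw [map_one, hi, tsub_self, pow_zero, mul_one, hmono.coeff_natDegree]⟩
    · exact ⟨0, by rw [map_zero, coeff_eq_zero_of_natDegree_lt hi, zero_mul]⟩
  obtain ⟨P, hP, -, hPm⟩ := Polynomial.lifts_and_natDegree_eq_and_monic hlift ((monic_scaleRoots_iff _).2 hmono)
  have h0 : ι (P.eval₂ f (T • b)) = 0 := by
    have h1 : p.eval₂ (RingHom.id _) (ι b) = 0 := aeval_poly (k := S) (H := S ⊗[R] A) (ι b)
    have h2 := scaleRoots_eval₂_eq_zero (RingHom.id _) (s := T') h1
    rw [← hP, eval₂_map, RingHom.id_comp] at h2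
    rw [show ι (P.eval₂ f (T • b)) =
        (Algebra.TensorProduct.includeRight : B →ₐ[R] S ⊗[R] B).toRingHom (P.eval₂ f (T • b)) from rfl,
      Polynomial.hom_eval₂]
    convert! h2 using 2
    rw [RingHom.id_apply, show T' * ι b = T • ι b from algebraMap_smul (S ⊗[R] B) T (ι b), ← map_smul]
    rfl
  obtain ⟨t', ht'⟩ := (IsLocalizedModule.eq_zero_iff q.primeCompl ι).1 h0
  refine (show (t' : R) * T ∈ q.primeCompl from mul_mem t'.2 (prod_mem fun i _ => ht i)) (hJq ?_)
  show ((t' : R) * T) • b ∈ integralClosure C B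
  rcases Nat.eq_zero_or_pos P.natDegree with hn | hn
  · have h1 : P = 1 := eq_one_of_monic_natDegree_zero hPm hn
    have h2 : (t' : R) • b = 0 := by
      have h3 := congrArg (· * b) ht'
      simpa [h1, Submonoid.smul_def] using h3
    rw [mul_comm, mul_smul, h2, smul_zero]
    exact zero_mem _
  · refine ⟨P.scaleRoots (algebraMap R C t'), (monic_scaleRoots_iff _).2 hPm, ?_⟩
    rw [mul_smul, Algebra.smul_def (t' : R), show algebraMap R B t' = f (algebraMap R C t') from rfl,
      scaleRoots_eval₂_mul]
    obtain ⟨n, hn'⟩ := Nat.exists_eq_add_of_le' hn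
    rw [hn', pow_succ, mul_assoc, show f (algebraMap R C t') * P.eval₂ f (T • b) =
      (t' : R) • P.eval₂ f (T • b) from (Algebra.smul_def (t' : R) (P.eval₂ f (T • b))).symm, show (t' : R) • P.eval₂ f (T • b) = 0 from ht',
      mul_zero]

end Groth.L08.FinFlat
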