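import Groth.Agent.L08.FinFlat.Conj
import Groth.Prelude.Def_CoactBr
import Mathlib.AlgebraicGeometry.AffineScheme
import Mathlib.RingTheory.LocalRing.ResidueField.Ideal
import Mathlib.RingTheory.LocalRing.Module
import Mathlib.RingTheory.Support
import Mathlib.FieldTheory.IsAlgClosed.AlgebraicClosure

/-!
# Inertia of a finite flat group scheme action on an affine scheme, in algebra form
-/

universe u

open CategoryTheory MonoidalCategory CartesianMonoidalCategory MonObj AlgebraicGeometry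
open TensorProduct

noncomputable section

namespace Groth.L08.FinFlat

variable {R A B : Type u} [CommRing R] [CommRing A] [HopfAlgebra R A]
  [CommRing B] [Algebra R B] [HopfRep.Comod R A B] [GLin.IsCoactAlg R A B]

variable (R A) in
/-- the unit point -/
abbrev unitPt (O : Type u) [CommRing O] [Algebra R O] : A →ₐ[R] O :=
  (Algebra.ofId R O).comp (Bialgebra.counitAlgHom R A)

variable {O O' : Type u} [CommRing O] [Algebra R O] [CommRing O'] [Algebra R O']

/-- `z · g = z` -/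
def Fix (z : B →ₐ[R] O) (g : A →ₐ[R] O) : Prop :=
  (Algebra.TensorProduct.lift z g fun _ _ => .all _ _).comp (GLin.coactAlgHom R A B) = z

theorem Fix.map {z : B →ₐ[R] O} {g : A →ₐ[R] O} (h : Fix z g) (φ : O →ₐ[R] O') : Fix (φ.comp z) (φ.comp g) := by
  unfold Fix at h ⊢
  conv_rhs => rw [← h, ← AlgHom.comp_assoc]
  congr 1
  exact Algebra.TensorProduct.ext' fun a b => by simp

variable (A) in
/-- trivial inertia at a point -/
def Triv {K : Type u} [CommRing K] [Algebra R K] (x : B →ₐ[R] K) : Prop :=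
  ∀ (O : Type u) [CommRing O] [Algebra R O] (i : K →ₐ[R] O) (g : A →ₐ[R] O), Fix (i.comp x) g → g = unitPt R A O

variable (R) in
/-- `T → Spec Γ(T)` over `R` -/
def toSp (T : Over (Spec (CommRingCat.of R))) :
    letI : Algebra R Γ(T.left, ⊤) := ((Scheme.ΓSpecIso (CommRingCat.of R)).inv ≫ T.hom.appTop).hom.toAlgebra
    T ⟶ CoactBr.sp R Γ(T.left, ⊤) :=
  letI : Algebra R Γ(T.left, ⊤) := ((Scheme.ΓSpecIso (CommRingCat.of R)).inv ≫ T.hom.appTop).hom.toAlgebra
  Over.homMk T.left.toSpecΓ (by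
    show T.left.toSpecΓ ≫ Spec.map ((Scheme.ΓSpecIso (CommRingCat.of R)).inv ≫ T.hom.appTop) = T.hom
    rw [Spec.map_comp, ← Category.assoc, ← Scheme.toSpecΓ_naturality, Category.assoc, toSpecΓ_SpecMap_ΓSpecIso_inv,
      Category.comp_id])

/-- morphisms to an affine scheme are algebra maps into global sections -/
theorem exists_pt (T : Over (Spec (CommRingCat.of R))) :
    ∃ (O : Type u) (_ : CommRing O) (_ : Algebra R O) (et : T ⟶ CoactBr.sp R O),
      ∀ (C : Type u) [CommRing C] [Algebra R C],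
        (∀ f : T ⟶ CoactBr.sp R C, ∃ φ : C →ₐ[R] O, f = et ≫ CoactBr.pt φ) ∧
        (∀ φ ψ : C →ₐ[R] O, et ≫ CoactBr.pt φ = et ≫ CoactBr.pt ψ → φ = ψ) := by
  letI : Algebra R Γ(T.left, ⊤) := ((Scheme.ΓSpecIso (CommRingCat.of R)).inv ≫ T.hom.appTop).hom.toAlgebra
  refine ⟨Γ(T.left, ⊤), inferInstance, inferInstance, toSp R T, fun C _ _ => ?_⟩
  have het : ∀ φ : CommRingCat.of C ⟶ Γ(T.left, ⊤),
      (Scheme.ΓSpecIso (CommRingCat.of C)).inv ≫ (T.left.toSpecΓ ≫ Spec.map φ).appTop = φ := fun φ => by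
    rw [Scheme.Hom.comp_appTop, Scheme.toSpecΓ_appTop, ← Category.assoc, ← Scheme.ΓSpecIso_inv_naturality,
      Category.assoc, Iso.inv_hom_id, Category.comp_id]
  refine ⟨fun f => ?_, fun φ ψ h => ?_⟩
  · let φ : CommRingCat.of C ⟶ Γ(T.left, ⊤) := (Scheme.ΓSpecIso (CommRingCat.of C)).inv ≫ f.left.appTop
    have hφ : CommRingCat.ofHom (algebraMap R C) ≫ φ = (Scheme.ΓSpecIso (CommRingCat.of R)).inv ≫ T.hom.appTop := by
      have key : ∀ g : T.left ⟶ Spec (CommRingCat.of C), g ≫ Spec.map (CommRingCat.ofHom (algebraMap R C)) = T.hom →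
          CommRingCat.ofHom (algebraMap R C) ≫ (Scheme.ΓSpecIso (CommRingCat.of C)).inv ≫ g.appTop =
            (Scheme.ΓSpecIso (CommRingCat.of R)).inv ≫ T.hom.appTop := fun g hg => by
        rw [← Category.assoc, Scheme.ΓSpecIso_inv_naturality, Category.assoc, ← hg, Scheme.Hom.comp_appTop]
      exact key f.left (Over.w f)
    refine ⟨{ φ.hom with commutes' := fun r => RingHom.congr_fun (congrArg CommRingCat.Hom.hom hφ) r }, ?_⟩
    ext1
    have e : ∀ g : T.left ⟶ Spec (CommRingCat.of C), g =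
        T.left.toSpecΓ ≫ Spec.map ((Scheme.ΓSpecIso (CommRingCat.of C)).inv ≫ g.appTop) := fun g => by
      rw [Spec.map_comp, ← Category.assoc, ← Scheme.toSpecΓ_naturality, Category.assoc,
        toSpecΓ_SpecMap_ΓSpecIso_inv, Category.comp_id]
    exact e f.left
  · have h' : T.left.toSpecΓ ≫ Spec.map (CommRingCat.ofHom φ.toRingHom) =
        T.left.toSpecΓ ≫ Spec.map (CommRingCat.ofHom ψ.toRingHom) := congrArg CommaMorphism.left h
    have h2 := het (CommRingCat.ofHom φ.toRingHom)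
    rw [h', het] at h2
    exact AlgHom.coe_ringHom_injective (congrArg CommRingCat.Hom.hom h2).symm

theorem fix_of_act_eq {T : Over (Spec (CommRingCat.of R))} (et : T ⟶ CoactBr.sp R O)
    (het : ∀ φ ψ : B →ₐ[R] O, et ≫ CoactBr.pt φ = et ≫ CoactBr.pt ψ → φ = ψ) {z : B →ₐ[R] O} {g : A →ₐ[R] O}
    (h : lift (et ≫ CoactBr.pt g) (et ≫ CoactBr.pt z) ≫ (CoactBr.action R A B).act = et ≫ CoactBr.pt z) :
    Fix z (g.comp (HopfAlgebra.antipodeAlgHom R A)) := by
  rw [← comp_lift, Category.assoc, CoactBr.lift_pt_action_act] at h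
  exact het _ _ h

theorem eq_one_of_forall {T : Over (Spec (CommRingCat.of R))} {ζ : T ⟶ CoactBr.sp R B} {g : T ⟶ CoactBr.sp R A}
    (h : lift g ζ ≫ (CoactBr.action R A B).act = ζ)
    (H : ∀ (O : Type u) [CommRing O] [Algebra R O] (et : T ⟶ CoactBr.sp R O)
      (_ : ∀ (C : Type u) [CommRing C] [Algebra R C],
        (∀ f : T ⟶ CoactBr.sp R C, ∃ φ : C →ₐ[R] O, f = et ≫ CoactBr.pt φ) ∧
        (∀ φ ψ : C →ₐ[R] O, et ≫ CoactBr.pt φ = et ≫ CoactBr.pt ψ → φ = ψ))
      (z : B →ₐ[R] O) (γ : A →ₐ[R] O),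
      ζ = et ≫ CoactBr.pt z → Fix z γ → γ = unitPt R A O) : g = 1 := by
  obtain ⟨O, _, _, et, hO⟩ := exists_pt T
  obtain ⟨z, rfl⟩ := (hO B).1 ζ
  obtain ⟨γ, rfl⟩ := (hO A).1 g
  have e := H O et hO z _ rfl (fix_of_act_eq et (hO B).2 h)
  have e1 : (CoactBr.pt γ)⁻¹ = 1 := by rw [CoactBr.pt_inv, e, CoactBr.one_eq_pt]
  rw [inv_eq_one.1 e1, MonObj.comp_one]

theorem act_eq_of_fix {z : B →ₐ[R] O} {g : A →ₐ[R] O} (h : Fix z g) :
    lift (CoactBr.pt g)⁻¹ (CoactBr.pt z) ≫ (CoactBr.action R A B).act = CoactBr.pt z := by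
  rw [CoactBr.lift_action_act, inv_inv, CoactBr.lift_pt_ract, show _ = z from h]

theorem triv_iff {K : Type u} [CommRing K] [Algebra R K] (x : B →ₐ[R] K) :
    (∀ (T : Over (Spec (CommRingCat.of R))) (h : T ⟶ CoactBr.sp R K) (g : T ⟶ CoactBr.sp R A),
      lift g (h ≫ CoactBr.pt x) ≫ (CoactBr.action R A B).act = h ≫ CoactBr.pt x → g = 1) ↔ Triv A x := by
  constructor
  · intro H O _ _ i g hg
    have e := H _ (CoactBr.pt i) (CoactBr.pt g)⁻¹ (by
      rw [← CoactBr.pt_comp]; exact act_eq_of_fix hg)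
    exact CoactBr.pt_injective ((inv_eq_one.1 e).trans CoactBr.one_eq_pt)
  · intro H T h g hg
    obtain ⟨O, _, _, et, hO⟩ := exists_pt T
    obtain ⟨i, rfl⟩ := (hO K).1 h
    rw [Category.assoc, ← CoactBr.pt_comp] at hg
    obtain ⟨γ, rfl⟩ := (hO A).1 g
    have e := H O i _ (fix_of_act_eq et (hO B).2 hg)
    have e1 : (CoactBr.pt γ)⁻¹ = 1 := by rw [CoactBr.pt_inv, e, CoactBr.one_eq_pt]
    rw [inv_eq_one.1 e1, MonObj.comp_one]

theorem triv_comp {K L : Type u} [CommRing K] [Algebra R K] [CommRing L] [Algebra R L] {x : B →ₐ[R] K}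
    (j : K →ₐ[R] L) (h : Triv A x) : Triv A (j.comp x) := fun O _ _ i g hg =>
  h O (i.comp j) g (by rwa [AlgHom.comp_assoc])

theorem triv_of_comp {K L : Type u} [Field K] [Algebra R K] [Field L] [Algebra R L] {x : B →ₐ[R] K}
    (j : K →ₐ[R] L) (h : Triv A (j.comp x)) : Triv A x := by
  intro O _ _ i g hg
  letI : Algebra K L := j.toRingHom.toAlgebra
  letI : Algebra K O := i.toRingHom.toAlgebra
  haveI : IsScalarTower R K L := IsScalarTower.of_algebraMap_eq fun r => (j.commutes r).symm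
  haveI : IsScalarTower R K O := IsScalarTower.of_algebraMap_eq fun r => (i.commutes r).symm
  let φ : O →ₐ[R] L ⊗[K] O := (Algebra.TensorProduct.includeRight : O →ₐ[K] L ⊗[K] O).restrictScalars R
  let ψ : L →ₐ[R] L ⊗[K] O := (Algebra.TensorProduct.includeLeft : L →ₐ[K] L ⊗[K] O).restrictScalars R
  have hφ : φ.comp (i.comp x) = ψ.comp (j.comp x) := AlgHom.ext fun b =>
    ((Algebra.TensorProduct.includeRight : O →ₐ[K] L ⊗[K] O).commutes (x b)).trans
      ((Algebra.TensorProduct.includeLeft : L →ₐ[K] L ⊗[K] O).commutes (x b)).symm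
  have e := h _ ψ (φ.comp g) (hφ ▸ hg.map φ)
  refine AlgHom.ext fun a => Algebra.TensorProduct.includeRight_injective (A := L) (R := K) (B := O)
    (algebraMap K L).injective ?_
  exact (AlgHom.congr_fun e a).trans (φ.commutes _).symm

theorem triv_of_move {K : Type u} [CommRing K] [Algebra R K] {x₁ x₂ : B →ₐ[R] K} {g₀ : A →ₐ[R] K}
    (hg₀ : (Algebra.TensorProduct.lift x₁ g₀ fun _ _ => .all _ _).comp (GLin.coactAlgHom R A B) = x₂)
    (h : Triv A x₁) : Triv A x₂ := by
  intro O _ _ i k hk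
  let P₁ := CoactBr.pt (i.comp x₁)
  let P₂ := CoactBr.pt (i.comp x₂)
  let G := CoactBr.pt (i.comp g₀)
  let Kk := CoactBr.pt k
  have h1 : lift P₁ G ≫ CoactBr.ract R A B = P₂ := by
    simp only [P₁, P₂, G, CoactBr.pt_comp, ← comp_lift, Category.assoc, CoactBr.lift_pt_ract, hg₀]
  have h2 : lift P₂ Kk ≫ CoactBr.ract R A B = P₂ := by
    simp only [P₂, Kk, CoactBr.lift_pt_ract]
    exact congrArg CoactBr.pt hk
  have h3 : lift P₁ (G * Kk * G⁻¹) ≫ CoactBr.ract R A B = P₁ := by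
    rw [← CoactBr.lift_ract_ract, ← CoactBr.lift_ract_ract, h1, h2, ← h1, CoactBr.lift_ract_ract,
      mul_inv_cancel, CoactBr.lift_one_ract]
  let c : A →ₐ[R] O := (Spec.mapMulEquiv (R := R) (S := A) (T := O)).symm (G * Kk * G⁻¹) |>.ofConv
  have hc : CoactBr.pt c = G * Kk * G⁻¹ := (Spec.mapMulEquiv (R := R) (S := A) (T := O)).apply_symm_apply _
  rw [← hc] at h3
  simp only [P₁, CoactBr.lift_pt_ract] at h3
  have e := h O i c (CoactBr.pt_injective h3)
  rw [e, ← CoactBr.one_eq_pt, eq_comm, mul_inv_eq_one, mul_eq_left] at hc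
  exact CoactBr.pt_injective (hc.trans CoactBr.one_eq_pt)

/-- triviality of inertia only depends on the image in the quotient -/
theorem triv_of_ker_eq [Module.Finite R A] [Module.Flat R A] {K₁ K₂ : Type u} [Field K₁] [Algebra R K₁]
    [Field K₂] [Algebra R K₂] (x₁ : B →ₐ[R] K₁) (x₂ : B →ₐ[R] K₂)
    (h : RingHom.ker (x₁.toRingHom.comp (GLin.invariants R A B).val.toRingHom) =
      RingHom.ker (x₂.toRingHom.comp (GLin.invariants R A B).val.toRingHom))
    (h1 : Triv A x₁) : Triv A x₂ := by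
  let C := GLin.invariants R A B
  let f₁ : C →+* K₁ := x₁.toRingHom.comp C.val.toRingHom
  let f₂ : C →+* K₂ := x₂.toRingHom.comp C.val.toRingHom
  let p := RingHom.ker f₁
  haveI : p.IsPrime := RingHom.ker_isPrime _
  have hu₁ : p.primeCompl ≤ (IsUnit.submonoid K₁).comap f₁ := fun c hc => isUnit_iff_ne_zero.2 hc
  have hu₂ : p.primeCompl ≤ (IsUnit.submonoid K₂).comap f₂ := fun c hc => isUnit_iff_ne_zero.2
    fun e => hc (h.ge e)
  letI : Algebra p.ResidueField K₁ := (Ideal.ResidueField.lift p f₁ le_rfl hu₁).toAlgebra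
  letI : Algebra p.ResidueField K₂ := (Ideal.ResidueField.lift p f₂ h.le hu₂).toAlgebra
  obtain ⟨M, hM⟩ := Ideal.exists_maximal (K₁ ⊗[p.ResidueField] K₂)
  letI : Field ((K₁ ⊗[p.ResidueField] K₂) ⧸ M) := Ideal.Quotient.field M
  let L := AlgebraicClosure ((K₁ ⊗[p.ResidueField] K₂) ⧸ M)
  let π : K₁ ⊗[p.ResidueField] K₂ →+* L := (algebraMap _ L).comp (Ideal.Quotient.mk M)
  let j₁ : K₁ →+* L := π.comp Algebra.TensorProduct.includeLeftRingHom
  let j₂ : K₂ →+* L := π.comp Algebra.TensorProduct.includeRight.toRingHom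
  letI : Algebra R L := (j₁.comp (algebraMap R K₁)).toAlgebra
  have hC : ∀ c : C, j₁ (f₁ c) = j₂ (f₂ c) := fun c => by
    have e1 : f₁ c = algebraMap p.ResidueField K₁ (algebraMap C p.ResidueField c) :=
      (Ideal.ResidueField.lift_algebraMap p f₁ le_rfl hu₁ c).symm
    have e2 : f₂ c = algebraMap p.ResidueField K₂ (algebraMap C p.ResidueField c) :=
      (Ideal.ResidueField.lift_algebraMap p f₂ h.le hu₂ c).symm
    rw [e1, e2]
    exact congrArg π ((Algebra.TensorProduct.includeRight : K₂ →ₐ[p.ResidueField] _).commutes _).symm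
  let J₁ : K₁ →ₐ[R] L := { j₁ with commutes' := fun r => rfl }
  have hJ₂ : ∀ r, j₂ (algebraMap R K₂ r) = j₁ (algebraMap R K₁ r) := fun r => by
    rw [← x₁.commutes r, ← x₂.commutes r]
    exact (hC (algebraMap R C r)).symm
  let J₂ : K₂ →ₐ[R] L := { j₂ with commutes' := hJ₂ }
  obtain ⟨g, hg⟩ := exists_point_of_flat (J₁.comp x₁) (J₂.comp x₂) fun r hr => hC ⟨r, hr⟩
  exact triv_of_comp J₂ (triv_of_move hg (triv_comp J₁ h1))

theorem one_tmul_eq_of_triv {Q : Type u} [CommRing Q] [Algebra R Q] [Algebra B Q] [IsScalarTower R B Q]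
    (g₀ : A →ₐ[R] Q) (hfix : Fix (IsScalarTower.toAlgHom R B Q) g₀) (κ : Type u) [CommRing κ] [Algebra R κ]
    [Algebra B κ] [IsScalarTower R B κ] (h : Triv A (IsScalarTower.toAlgHom R B κ)) (a : A) :
    (1 : κ) ⊗ₜ[B] g₀ a = (1 : κ) ⊗ₜ[B] algebraMap R Q (Coalgebra.counit a) := by
  let φ : Q →ₐ[R] κ ⊗[B] Q := (Algebra.TensorProduct.includeRight : Q →ₐ[B] κ ⊗[B] Q).restrictScalars R
  let ψ : κ →ₐ[R] κ ⊗[B] Q := (Algebra.TensorProduct.includeLeft : κ →ₐ[B] κ ⊗[B] Q).restrictScalars R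
  have hφ : φ.comp (IsScalarTower.toAlgHom R B Q) = ψ.comp (IsScalarTower.toAlgHom R B κ) := AlgHom.ext fun b =>
    ((Algebra.TensorProduct.includeRight : Q →ₐ[B] κ ⊗[B] Q).commutes b).trans
      ((Algebra.TensorProduct.includeLeft : κ →ₐ[B] κ ⊗[B] Q).commutes b).symm
  have e := h (κ ⊗[B] Q) ψ (φ.comp g₀) (by rw [← hφ]; exact hfix.map φ)
  exact (AlgHom.congr_fun e a).trans (φ.commutes _).symm

section Stab

variable (R A B)

/-- equations of the stabiliser -/
def stabIdeal : Ideal (B ⊗[R] A) := Ideal.span (Set.range fun b => GLin.coactAlgHom R A B b - b ⊗ₜ[R] 1)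

/-- coordinate ring of the stabiliser -/
abbrev StabRing := (B ⊗[R] A) ⧸ stabIdeal R A B

/-- the unit section -/
def unitSection : StabRing R A B →ₐ[B] B :=
  Ideal.Quotient.liftₐ _ (eps (k := R) (H := A) (R := B)) (by
    refine fun z hz => (Ideal.span_le (I := RingHom.ker (eps (k := R) (H := A) (R := B))).2 ?_) hz
    rintro _ ⟨b, rfl⟩
    show eps (co R A B b - b ⊗ₜ[R] 1) = 0
    rw [map_sub, eps_co, sub_eq_zero]
    simp [eps])

/-- the part away from the unit section -/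
def offUnit : StabRing R A B →ₗ[B] StabRing R A B :=
  LinearMap.id - (Algebra.linearMap B (StabRing R A B)) ∘ₗ (unitSection R A B).toLinearMap

/-- functions killing the part away from the unit section -/
def badLocus : Ideal B := Module.annihilator B (LinearMap.range (offUnit R A B))

variable {R A B}

theorem offUnit_mk_tmul (a : A) : offUnit R A B (Ideal.Quotient.mk _ ((1 : B) ⊗ₜ[R] a)) =
    Ideal.Quotient.mk _ ((1 : B) ⊗ₜ[R] a) - algebraMap R _ (Coalgebra.counit a) := by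
  simp only [offUnit, LinearMap.sub_apply, LinearMap.id_apply, LinearMap.comp_apply, Algebra.linearMap_apply,
    AlgHom.toLinearMap_apply]
  congr 1
  rw [IsScalarTower.algebraMap_apply R B (StabRing R A B)]
  congr 1
  show eps ((1 : B) ⊗ₜ[R] a) = _
  simp [eps]

theorem eq_unitPt_of_fix {z : B →ₐ[R] O} {g : A →ₐ[R] O} (h : Fix z g) {c : B} (hc : c ∈ badLocus R A B)
    (hu : IsUnit (z c)) : g = unitPt R A O := by
  let Ψ : StabRing R A B →ₐ[R] O := Ideal.Quotient.liftₐ _
    (Algebra.TensorProduct.lift z g fun _ _ => .all _ _) (by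
    refine fun w hw => (Ideal.span_le
      (I := RingHom.ker (Algebra.TensorProduct.lift z g fun _ _ => .all _ _))).2 ?_ hw
    rintro _ ⟨b, rfl⟩
    show Algebra.TensorProduct.lift z g (fun _ _ => .all _ _) (GLin.coactAlgHom R A B b - b ⊗ₜ[R] 1) = 0
    rw [map_sub, Algebra.TensorProduct.lift_tmul, map_one, _root_.mul_one, sub_eq_zero]
    exact AlgHom.congr_fun h b)
  refine AlgHom.ext fun a => sub_eq_zero.1 (hu.mul_right_eq_zero.1 ?_)
  have h0 : c • offUnit R A B (Ideal.Quotient.mk _ ((1 : B) ⊗ₜ[R] a)) = 0 :=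
    congrArg Subtype.val (Module.mem_annihilator.1 hc ⟨_, LinearMap.mem_range_self _ _⟩)
  rw [offUnit_mk_tmul, ← algebraMap_smul (StabRing R A B) c, smul_eq_mul] at h0
  have h1 := congrArg Ψ h0
  rw [map_mul, map_sub, AlgHom.commutes, map_zero] at h1
  refine Eq.trans ?_ h1
  congr 1
  · show z c = Algebra.TensorProduct.lift z g (fun _ _ => .all _ _) (c ⊗ₜ[R] (1 : A))
    simp
  · congr 1
    show g a = Algebra.TensorProduct.lift z g (fun _ _ => .all _ _) ((1 : B) ⊗ₜ[R] a)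
    simp

set_option maxHeartbeats 800000 in
theorem not_le_of_triv [Module.Finite R A] (n : Ideal B) [n.IsPrime]
    (h : Triv A (IsScalarTower.toAlgHom R B n.ResidueField)) : ¬ badLocus R A B ≤ n := by
  intro hle
  haveI : Module.Finite B (StabRing R A B) := inferInstance
  let N := LinearMap.range (offUnit R A B)
  haveI : Module.Finite B N := inferInstance
  let κ := n.ResidueField
  have hmem : (⟨n, inferInstance⟩ : PrimeSpectrum B) ∈ Module.support B N := by
    rw [Module.support_eq_zeroLocus]; exact hle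
  haveI : Nontrivial (κ ⊗[B] N) := (Module.mem_support_iff_nontrivial_residueField_tensorProduct _).1 hmem
  let z₀ : B →ₐ[R] StabRing R A B := IsScalarTower.toAlgHom R B _
  let g₀ : A →ₐ[R] StabRing R A B := (Ideal.Quotient.mkₐ R _).comp Algebra.TensorProduct.includeRight
  have hfix : Fix z₀ g₀ := by
    refine AlgHom.ext fun b => ?_
    have e : (Algebra.TensorProduct.lift z₀ g₀ fun _ _ => .all _ _) = Ideal.Quotient.mkₐ R _ :=
      Algebra.TensorProduct.ext' fun b a => by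
        show Ideal.Quotient.mk _ (b ⊗ₜ[R] (1 : A)) * Ideal.Quotient.mk _ ((1 : B) ⊗ₜ[R] a) = _
        rw [← map_mul]
        simp
    rw [AlgHom.comp_apply, e]
    exact Ideal.Quotient.eq.2 (Ideal.subset_span ⟨b, rfl⟩)
  have ea : ∀ a, (1 : κ) ⊗ₜ[B] g₀ a = (1 : κ) ⊗ₜ[B] algebraMap R (StabRing R A B) (Coalgebra.counit a) :=
    one_tmul_eq_of_triv g₀ hfix κ h
  have hP : ∀ w, (1 : κ) ⊗ₜ[B] offUnit R A B w = 0 := by
    intro w
    obtain ⟨w, rfl⟩ := Ideal.Quotient.mk_surjective w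
    induction w using TensorProduct.induction_on with
    | zero => simp
    | add u v hu hv => rw [map_add, map_add, tmul_add, hu, hv, add_zero]
    | tmul b a =>
      rw [show Ideal.Quotient.mk (stabIdeal R A B) (b ⊗ₜ[R] a) =
        b • Ideal.Quotient.mk (stabIdeal R A B) ((1 : B) ⊗ₜ[R] a) by
          rw [← Ideal.Quotient.mkₐ_eq_mk B, ← map_smul, TensorProduct.smul_tmul', smul_eq_mul, _root_.mul_one],
        map_smul, tmul_smul, offUnit_mk_tmul, tmul_sub]
      rw [show (1 : κ) ⊗ₜ[B] Ideal.Quotient.mk (stabIdeal R A B) ((1 : B) ⊗ₜ[R] a) =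
        (1 : κ) ⊗ₜ[B] algebraMap R (StabRing R A B) (Coalgebra.counit a) from ea a, sub_self, smul_zero]
  refine not_subsingleton (κ ⊗[B] N) ⟨fun u v => ?_⟩
  have hz : ∀ u : κ ⊗[B] N, u = 0 := by
    intro u
    induction u using TensorProduct.induction_on with
    | zero => rfl
    | add u v hu hv => rw [hu, hv, add_zero]
    | tmul k m =>
      obtain ⟨w, hw⟩ := m.2
      have hidem : offUnit R A B (offUnit R A B w) = offUnit R A B w := by
        simp [offUnit]
      have hm : (offUnit R A B).rangeRestrict (m : StabRing R A B) = m := Subtype.ext (by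
        show offUnit R A B (m : StabRing R A B) = m
        rw [← hw, hidem])
      rw [← hm, ← LinearMap.lTensor_tmul, show k ⊗ₜ[B] (m : StabRing R A B) =
        k • ((1 : κ) ⊗ₜ[B] (m : StabRing R A B)) by rw [TensorProduct.smul_tmul', smul_eq_mul, _root_.mul_one],
        ← hw, hP w, smul_zero, map_zero]
  rw [hz u, hz v]

end Stab

end Groth.L08.FinFlat
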