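import Groth.Prelude.Def_GLin
import Mathlib.RingTheory.HopfAlgebra.Convolution
import Mathlib.RingTheory.Bialgebra.Convolution
import Mathlib.LinearAlgebra.Charpoly.ToMatrix
import Mathlib.LinearAlgebra.Charpoly.BaseChange
import Mathlib.LinearAlgebra.FreeModule.Finite.Matrix
import Mathlib.FieldTheory.IsAlgClosed.Basic
import Mathlib.Algebra.MvPolynomial.Eval
import Mathlib.LinearAlgebra.Determinant
import Mathlib.RingTheory.TensorProduct.Free
import Mathlib.RingTheory.Ideal.GoingDown
import Mathlib.RingTheory.Ideal.GoingUp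
import Mathlib.RingTheory.LocalRing.ResidueField.Ideal
import Mathlib.RingTheory.Artinian.Module

/-!
# Norms for actions of a finite free group scheme on an affine scheme over a ring
-/

universe u v w w'

open TensorProduct Polynomial WithConv

noncomputable section

namespace Groth.L08.FinFlat

variable {k : Type u} [CommRing k] {H : Type v} [CommRing H] [HopfAlgebra k H] [Module.Finite k H] [Module.Free k H]
  {R : Type w} [CommRing R] [Algebra k R] {S : Type w'} [CommRing S] [Algebra k S]

/-- characteristic polynomial of multiplication on `R ⊗ H` over `R` -/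
def poly (c : R ⊗[k] H) : R[X] := (Algebra.lmul R (R ⊗[k] H) c).charpoly

theorem map_poly (φ : R →ₐ[k] S) (c : R ⊗[k] H) :
    (poly c).map φ.toRingHom = poly (Algebra.TensorProduct.map φ (AlgHom.id k H) c) := by
  classical
  let e := Module.Free.chooseBasis k H
  let bR := Algebra.TensorProduct.basis R e
  let bS := Algebra.TensorProduct.basis S e
  let Φ := Algebra.TensorProduct.map φ (AlgHom.id k H)
  have hrepr : ∀ (z : R ⊗[k] H) i, bS.repr (Φ z) i = φ (bR.repr z i) := by
    intro z i
    induction z using TensorProduct.induction_on with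
    | zero => simp
    | add u v hu hv => simp [hu, hv]
    | tmul r h =>
      simp only [Φ, bR, bS, Algebra.TensorProduct.map_tmul, AlgHom.id_apply,
        Algebra.TensorProduct.basis_repr_tmul, Finsupp.smul_apply, Finsupp.mapRange_apply,
        smul_eq_mul, map_mul, AlgHom.commutes]
  rw [poly, poly, ← LinearMap.charpoly_toMatrix _ bR, ← LinearMap.charpoly_toMatrix _ bS, ← Matrix.charpoly_map]
  congr 1
  ext i j
  rw [Matrix.map_apply, LinearMap.toMatrix_apply, LinearMap.toMatrix_apply,
    show bS j = Φ (bR j) from by simp [bS, bR, Φ, Algebra.TensorProduct.basis_apply]]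
  exact (hrepr _ i).symm.trans (congrArg (fun z => bS.repr z i) (map_mul Φ _ _))

theorem poly_algEquiv (e : R ⊗[k] H ≃ₐ[R] R ⊗[k] H) (c : R ⊗[k] H) : poly (e c) = poly c := by
  rw [poly, poly, ← LinearEquiv.charpoly_conj e.toLinearEquiv.symm]
  congr 1
  refine LinearMap.ext fun z => ?_
  simp [LinearEquiv.conj_apply]

theorem coeff_zero_eq_zero_of_not_isUnit {K : Type w'} [Field K] [Algebra k K] {c : K ⊗[k] H}
    (h : (poly c).coeff 0 = 0) : ¬ IsUnit c := by
  intro hc
  have h1 : IsUnit (LinearMap.det (Algebra.lmul K (K ⊗[k] H) c)) := (hc.map (Algebra.lmul K (K ⊗[k] H))).map _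
  rw [LinearMap.det_eq_sign_charpoly_coeff] at h1
  exact h1.ne_zero (by rw [show (Algebra.lmul K (K ⊗[k] H) c).charpoly.coeff 0 = 0 from h, mul_zero])

variable (R) in
/-- the Galois automorphism `s ⊗ h ↦ s · ∑ (1 ⊗ h₁) ⊗ h₂` -/
def gal : (R ⊗[k] H) ⊗[k] H ≃ₐ[R ⊗[k] H] (R ⊗[k] H) ⊗[k] H :=
  let T := (R ⊗[k] H) ⊗[k] H
  let j1 : H →ₐ[k] T := Algebra.TensorProduct.includeLeft.comp Algebra.TensorProduct.includeRight
  let j2 : H →ₐ[k] T := Algebra.TensorProduct.includeRight
  let j1' : H →ₐ[k] T := j1.comp (HopfAlgebra.antipodeAlgHom k H)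
  let F : T →ₐ[R ⊗[k] H] T := Algebra.TensorProduct.lift (Algebra.ofId _ _) (toConv j1 * toConv j2).ofConv
    (fun _ _ => Commute.all _ _)
  let G : T →ₐ[R ⊗[k] H] T := Algebra.TensorProduct.lift (Algebra.ofId _ _) (toConv j1' * toConv j2).ofConv
    (fun _ _ => Commute.all _ _)
  have hinv : toConv j1 * toConv j1' = 1 ∧ toConv j1' * toConv j1 = 1 := by
    have h1 := mul_inv_cancel (toConv (AlgHom.id k H) : WithConv (H →ₐ[k] H))
    have h2 := inv_mul_cancel (toConv (AlgHom.id k H) : WithConv (H →ₐ[k] H))
    constructor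
    · have h := congrArg (fun f : WithConv (H →ₐ[k] H) => j1.comp f.ofConv) h1
      simp only [AlgHom.comp_convMul_distrib] at h
      exact WithConv.ext (h.trans (AlgHom.ext fun a => j1.commutes _))
    · have h := congrArg (fun f : WithConv (H →ₐ[k] H) => j1.comp f.ofConv) h2
      simp only [AlgHom.comp_convMul_distrib] at h
      exact WithConv.ext (h.trans (AlgHom.ext fun a => j1.commutes _))
  have hF1 : ∀ f : H →ₐ[k] R ⊗[k] H, (F.restrictScalars k).comp (Algebra.TensorProduct.includeLeft.comp f) =
      Algebra.TensorProduct.includeLeft.comp f := fun f => AlgHom.ext fun h => by simp [F, T]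
  have hG1 : ∀ f : H →ₐ[k] R ⊗[k] H, (G.restrictScalars k).comp (Algebra.TensorProduct.includeLeft.comp f) =
      Algebra.TensorProduct.includeLeft.comp f := fun f => AlgHom.ext fun h => by simp [G, T]
  have hF2 : (F.restrictScalars k).comp j2 = (toConv j1 * toConv j2).ofConv := AlgHom.ext fun h => by simp [F, T, j2]
  have hG2 : (G.restrictScalars k).comp j2 = (toConv j1' * toConv j2).ofConv := AlgHom.ext fun h => by simp [G, T, j2]
  AlgEquiv.ofAlgHom F G
    (Algebra.TensorProduct.ext (AlgHom.ext fun s => by simp [F, G, T]) <| by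
      show ((F.comp G).restrictScalars k).comp j2 = j2
      change (F.restrictScalars k).comp ((G.restrictScalars k).comp j2) = j2
      rw [hG2, AlgHom.comp_convMul_distrib, hF2,
        show (F.restrictScalars k).comp j1' = j1' from hF1 (Algebra.TensorProduct.includeRight.comp (HopfAlgebra.antipodeAlgHom k H))]
      simp only [WithConv.toConv_ofConv]
      exact congrArg WithConv.ofConv ((mul_assoc (toConv j1') (toConv j1) (toConv j2)).symm.trans
        ((congrArg (· * toConv j2) hinv.2).trans (one_mul (M := WithConv (H →ₐ[k] T)) (toConv j2)))))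
    (Algebra.TensorProduct.ext (AlgHom.ext fun s => by simp [F, G, T]) <| by
      show ((G.comp F).restrictScalars k).comp j2 = j2
      change (G.restrictScalars k).comp ((F.restrictScalars k).comp j2) = j2
      rw [hF2, AlgHom.comp_convMul_distrib, hG2,
        show (G.restrictScalars k).comp j1 = j1 from hG1 Algebra.TensorProduct.includeRight]
      simp only [WithConv.toConv_ofConv]
      exact congrArg WithConv.ofConv ((mul_assoc (toConv j1) (toConv j1') (toConv j2)).symm.trans
        ((congrArg (· * toConv j2) hinv.1).trans (one_mul (M := WithConv (H →ₐ[k] T)) (toConv j2)))))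

variable [HopfRep.Comod k H R] [GLin.IsCoactAlg k H R]

variable (k H R) in
abbrev co : R →ₐ[k] R ⊗[k] H := GLin.coactAlgHom k H R

variable (k H R) in
abbrev inl : R →ₐ[k] R ⊗[k] H := Algebra.TensorProduct.includeLeft

omit [Module.Finite k H] [Module.Free k H] [HopfRep.Comod k H R] [GLin.IsCoactAlg k H R] in
theorem gal_map_inl (c : R ⊗[k] H) :
    gal R (Algebra.TensorProduct.map (inl k H R) (AlgHom.id k H) c) =
      (TensorProduct.assoc k R H H).symm (LinearMap.lTensor R Coalgebra.comul c) := by
  induction c using TensorProduct.induction_on with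
  | zero => simp
  | add u v hu hv => simp only [map_add, hu, hv]
  | tmul r h =>
    simp only [gal, Algebra.TensorProduct.map_tmul, AlgEquiv.ofAlgHom_apply, Algebra.TensorProduct.lift_tmul,
      AlgHom.id_apply, LinearMap.lTensor_tmul, AlgHom.convMul_apply]
    induction Coalgebra.comul (R := k) h using TensorProduct.induction_on with
    | zero => simp
    | add u v hu hv => simp only [map_add, mul_add, tmul_add, hu, hv]
    | tmul u v =>
      simp [Algebra.TensorProduct.tmul_mul_tmul, Algebra.TensorProduct.algebraMap_apply, Algebra.ofId_apply]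

theorem map_co_co (f : R) :
    Algebra.TensorProduct.map (co k H R) (AlgHom.id k H) (co k H R f) =
      gal R (Algebra.TensorProduct.map (inl k H R) (AlgHom.id k H) (co k H R f)) := by
  rw [gal_map_inl]
  have h3 := LinearMap.congr_fun (HopfRep.Comod.coassoc (k := k) (A := H) (V := R)) f
  simp only [LinearMap.comp_apply, LinearEquiv.coe_coe] at h3
  apply (TensorProduct.assoc k R H H).injective
  rw [LinearEquiv.apply_symm_apply]
  exact h3

theorem coact_coeff (f : R) (n : ℕ) : (poly (co k H R f)).coeff n ∈ GLin.invariants k H R := by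
  have h : (poly (co k H R f)).map (co k H R).toRingHom = (poly (co k H R f)).map (inl k H R).toRingHom := by
    rw [map_poly, map_poly, map_co_co, poly_algEquiv]
  have := congrArg (fun p => p.coeff n) h
  simp only [coeff_map] at this
  exact this

/-- the counit on the second factor -/
def eps : R ⊗[k] H →ₐ[R] R :=
  Algebra.TensorProduct.lift (AlgHom.id R R) ((Algebra.ofId k R).comp (Bialgebra.counitAlgHom k H))
    (fun _ _ => Commute.all _ _)

omit [Module.Finite k H] [Module.Free k H] in
theorem eps_co (f : R) : eps (k := k) (H := H) (co k H R f) = f := by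
  have h : ∀ z : R ⊗[k] H, eps z = TensorProduct.rid k R (LinearMap.lTensor R (Coalgebra.counit (R := k)) z) := by
    intro z
    induction z using TensorProduct.induction_on with
    | zero => simp
    | add u v hu hv => simp only [map_add, hu, hv]
    | tmul r h => simp [eps, Algebra.smul_def, mul_comm]
  rw [h, show LinearMap.lTensor R (Coalgebra.counit (R := k)) (co k H R f) = f ⊗ₜ[k] (1 : k) from
    LinearMap.congr_fun (HopfRep.Comod.counit_comp (k := k) (A := H) (V := R)) f, TensorProduct.rid_tmul, one_smul]

theorem aeval_poly (f : R) : (poly (co k H R f)).eval f = 0 := by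
  have h1 := LinearMap.aeval_self_charpoly (Algebra.lmul R (R ⊗[k] H) (co k H R f))
  rw [aeval_algHom_apply] at h1
  have h2 := LinearMap.congr_fun h1 1
  simp only [Algebra.lmul, LinearMap.zero_apply] at h2
  have h3 : aeval (co k H R f) (poly (co k H R f)) = 0 := by simpa [poly, Algebra.lmul] using h2
  have h4 := congrArg (eps (k := k) (H := H) (R := R)) h3
  rwa [← aeval_algHom_apply, eps_co, map_zero, coe_aeval_eq_eval] at h4

section Universal

variable {σ : Type*}

local notation "P" => MvPolynomial σ R

variable (k H R σ) in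
/-- `b ⊗ h ↦ C b ⊗ h` -/
abbrev mC : R ⊗[k] H →ₐ[k] P ⊗[k] H :=
  Algebra.TensorProduct.map (IsScalarTower.toAlgHom k R P) (AlgHom.id k H)

variable (k H R σ) in
/-- the coaction extended to polynomials, the variables being invariant -/
def coX : P →ₐ[k] P ⊗[k] H :=
  MvPolynomial.aevalTower ((mC k H R σ).comp (co k H R)) fun j => MvPolynomial.X j ⊗ₜ[k] (1 : H)

variable [Fintype σ]

variable (k H) in
/-- `∑ T_j · co (b j)` -/
def univ (b : σ → R) : P ⊗[k] H := ∑ j, (MvPolynomial.X j ⊗ₜ[k] (1 : H)) * mC k H R σ (co k H R (b j))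

theorem coX_univ (b : σ → R) :
    Algebra.TensorProduct.map (coX k H R σ) (AlgHom.id k H) (univ k H b) =
      gal P (Algebra.TensorProduct.map (inl k H P) (AlgHom.id k H) (univ k H b)) := by
  simp only [univ, map_sum, map_mul]
  refine Finset.sum_congr rfl fun j _ => ?_
  have hX : gal P (Algebra.TensorProduct.map (inl k H P) (AlgHom.id k H) (MvPolynomial.X j ⊗ₜ[k] (1 : H))) =
      Algebra.TensorProduct.map (coX k H R σ) (AlgHom.id k H) (MvPolynomial.X j ⊗ₜ[k] (1 : H)) := by
    simp only [Algebra.TensorProduct.map_tmul, coX, MvPolynomial.aevalTower_X, map_one, inl,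
      Algebra.TensorProduct.includeLeft_apply]
    exact (gal P).commutes ((MvPolynomial.X j : P) ⊗ₜ[k] (1 : H))
  rw [hX]
  congr 1
  have h1 : ∀ z : R ⊗[k] H, Algebra.TensorProduct.map (coX k H R σ) (AlgHom.id k H) (mC k H R σ z) =
      Algebra.TensorProduct.map (mC k H R σ) (AlgHom.id k H)
        (Algebra.TensorProduct.map (co k H R) (AlgHom.id k H) z) := by
    intro z
    induction z using TensorProduct.induction_on with
    | zero => simp
    | add u v hu hv => simp only [map_add, hu, hv]
    | tmul r h => simp [mC, coX]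
  rw [h1, map_co_co, gal_map_inl, gal_map_inl]
  induction co k H R (b j) using TensorProduct.induction_on with
  | zero => simp
  | add u v hu hv => simp only [map_add, hu, hv]
  | tmul r h =>
    simp only [mC, Algebra.TensorProduct.map_tmul, AlgHom.id_apply, LinearMap.lTensor_tmul]
    induction Coalgebra.comul (R := k) h using TensorProduct.induction_on with
    | zero => simp
    | add u v hu hv => simp only [tmul_add, map_add, hu, hv]
    | tmul u v => simp

variable (k H) in
/-- the norm of the universal combination -/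
def nrm (b : σ → R) : P := (poly (univ k H b)).coeff 0

theorem coX_nrm (b : σ → R) : coX k H R σ (nrm k H b) = nrm k H b ⊗ₜ[k] (1 : H) := by
  have h : (poly (univ k H b)).map (coX k H R σ).toRingHom = (poly (univ k H b)).map (inl k H P).toRingHom := by
    rw [map_poly, map_poly, coX_univ, poly_algEquiv]
  have := congrArg (fun p => p.coeff 0) h
  simp only [coeff_map] at this
  exact this

omit [Fintype σ] in
theorem coeff_coX (N : P) : ∀ m : σ →₀ ℕ,
    TensorProduct.map ((MvPolynomial.lcoeff R m).restrictScalars k) LinearMap.id (coX k H R σ N) =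
      co k H R (N.coeff m) := by
  classical
  induction N using MvPolynomial.induction_on with
  | C a =>
    intro m
    have hC : ∀ z : R ⊗[k] H,
        TensorProduct.map ((MvPolynomial.lcoeff R m).restrictScalars k) LinearMap.id (mC k H R σ z) =
          if 0 = m then z else 0 := by
      intro z
      induction z using TensorProduct.induction_on with
      | zero => simp
      | add u v hu hv => rw [map_add, map_add, hu, hv]; split_ifs <;> simp
      | tmul r h => split_ifs with e <;> simp [mC, MvPolynomial.coeff_C, e]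
    rw [coX, MvPolynomial.aevalTower_C, MvPolynomial.coeff_C, AlgHom.comp_apply, hC]
    split_ifs <;> simp
  | add p q hp hq => intro m; simp [hp, hq]
  | mul_X p j hp =>
    intro m
    rw [map_mul, show coX k H R σ (MvPolynomial.X j) = MvPolynomial.X j ⊗ₜ[k] (1 : H) from
      MvPolynomial.aevalTower_X _ _ _, MvPolynomial.coeff_mul_X']
    have key : ∀ z : P ⊗[k] H,
        TensorProduct.map ((MvPolynomial.lcoeff R m).restrictScalars k) LinearMap.id
          (z * (MvPolynomial.X j ⊗ₜ[k] (1 : H))) = if j ∈ m.support then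
        TensorProduct.map ((MvPolynomial.lcoeff R (m - Finsupp.single j 1)).restrictScalars k) LinearMap.id z
        else 0 := by
      intro z
      induction z using TensorProduct.induction_on with
      | zero => simp
      | add u v hu hv => rw [add_mul, map_add, hu, hv]; split_ifs <;> simp
      | tmul p h =>
        simp only [Algebra.TensorProduct.tmul_mul_tmul, mul_one, TensorProduct.map_tmul,
          LinearMap.restrictScalars_apply, MvPolynomial.lcoeff_apply, LinearMap.id_apply, MvPolynomial.coeff_mul_X']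
        split_ifs <;> simp
    rw [key, hp]
    split_ifs <;> simp

theorem coeff_nrm_mem (b : σ → R) (m : σ →₀ ℕ) : (nrm k H b).coeff m ∈ GLin.invariants k H R := by
  have h := coeff_coX (k := k) (H := H) (nrm k H b) m
  rw [coX_nrm, TensorProduct.map_tmul] at h
  exact h.symm

variable {K : Type w'} [Field K] [Algebra k K]

theorem map_univ (b : σ → R) (x : R →ₐ[k] K) (c : σ → K) :
    Algebra.TensorProduct.map (MvPolynomial.aevalTower x c) (AlgHom.id k H) (univ k H b) =
      ∑ j, c j • Algebra.TensorProduct.map x (AlgHom.id k H) (co k H R (b j)) := by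
  simp only [univ, map_sum, map_mul]
  refine Finset.sum_congr rfl fun j _ => ?_
  rw [Algebra.smul_def, Algebra.TensorProduct.map_tmul, MvPolynomial.aevalTower_X, map_one]
  congr 1
  induction co k H R (b j) using TensorProduct.induction_on with
  | zero => simp
  | add u v hu hv => simp only [map_add, hu, hv]
  | tmul r h => simp [mC, MvPolynomial.aevalTower_algebraMap]

theorem aevalTower_nrm_eq (b : σ → R) (x₁ x₂ : R →ₐ[k] K) (h : ∀ r ∈ GLin.invariants k H R, x₁ r = x₂ r)
    (c : σ → K) : MvPolynomial.aevalTower x₁ c (nrm k H b) = MvPolynomial.aevalTower x₂ c (nrm k H b) := by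
  have hev : ∀ x : R →ₐ[k] K, MvPolynomial.aevalTower x c (nrm k H b) =
      MvPolynomial.eval₂ (x : R →+* K) c (nrm k H b) := fun x => rfl
  rw [hev, hev, MvPolynomial.eval₂_eq', MvPolynomial.eval₂_eq']
  exact Finset.sum_congr rfl fun m _ => congrArg (· * _) (h _ (coeff_nrm_mem b m))

end Universal

theorem coeff_zero_poly_ne_zero {K : Type w'} [Field K] [Algebra k K] {c : K ⊗[k] H} (hc : IsUnit c) :
    (poly c).coeff 0 ≠ 0 := fun h => coeff_zero_eq_zero_of_not_isUnit h hc

theorem isUnit_of_coeff_zero_ne {K : Type w'} [Field K] [Algebra k K] {c : K ⊗[k] H}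
    (h : (poly c).coeff 0 ≠ 0) : IsUnit c := by
  have hd : LinearMap.det (Algebra.lmul K (K ⊗[k] H) c) ≠ 0 := by
    rw [LinearMap.det_eq_sign_charpoly_coeff]
    exact mul_ne_zero (pow_ne_zero _ (neg_ne_zero.2 one_ne_zero)) h
  obtain ⟨d, hd'⟩ := ((LinearMap.equivOfDetNeZero _ hd).surjective 1 :)
  exact IsUnit.of_mul_eq_one d hd'

/-- over an algebraically closed field, points with the same invariants are conjugate -/
theorem exists_point {K : Type w'} [Field K] [IsAlgClosed K] [Algebra k K] (x₁ x₂ : R →ₐ[k] K)
    (h : ∀ r ∈ GLin.invariants k H R, x₁ r = x₂ r) :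
    ∃ g : H →ₐ[k] K, (Algebra.TensorProduct.lift x₁ g fun _ _ => .all _ _).comp (co k H R) = x₂ := by
  classical
  by_contra! hne
  let D := K ⊗[k] H
  let ψ : (D →ₐ[K] K) → (R →ₐ[k] K) := fun g =>
    (Algebra.TensorProduct.lift x₁ ((g.restrictScalars k).comp Algebra.TensorProduct.includeRight)
      fun _ _ => .all _ _).comp (co k H R)
  let L : (R →ₐ[k] K) → (K ⊗[k] R →ₐ[K] K) := fun y =>
    Algebra.TensorProduct.lift (AlgHom.id K K) y fun _ _ => .all _ _
  have hL : ∀ y, (RingHom.ker (L y)).IsMaximal := fun y =>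
    RingHom.ker_isMaximal_of_surjective _ fun z => ⟨z ⊗ₜ 1, by simp [L]⟩
  obtain ⟨f, hf2, hfψ⟩ : ∃ f, L x₂ f = 0 ∧ ∀ g : D →ₐ[K] K, L (ψ g) f ≠ 0 := by
    haveI : Finite (D →ₐ[K] K) := inferInstance
    by_contra! hc
    have hsub : ((RingHom.ker (L x₂) : Ideal (K ⊗[k] R)) : Set (K ⊗[k] R)) ⊆
        ⋃ g ∈ ((Set.finite_univ : (Set.univ : Set (D →ₐ[K] K)).Finite).toFinset : Set (D →ₐ[K] K)),
          ((RingHom.ker (L (ψ g)) : Ideal (K ⊗[k] R)) : Set (K ⊗[k] R)) := by
      intro z hz
      obtain ⟨g, hg⟩ := hc z hz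
      exact Set.mem_iUnion₂.2 ⟨g, by simp, hg⟩
    let g₀ : D →ₐ[K] K := Algebra.TensorProduct.lift (AlgHom.id K K)
      ((Algebra.ofId k K).comp (Bialgebra.counitAlgHom k H)) fun _ _ => .all _ _
    obtain ⟨g, -, hg⟩ := (Ideal.subset_union_prime (f := fun g => RingHom.ker (L (ψ g))) g₀ g₀
      (fun g _ _ _ => (hL _).isPrime)).1 hsub
    have hker := (hL x₂).eq_of_le (hL (ψ g)).ne_top hg
    refine hne _ (AlgHom.ext fun r => ?_ : ψ g = x₂)
    have h0 : (1 : K) ⊗ₜ[k] r - (x₂ r) ⊗ₜ[k] (1 : R) ∈ RingHom.ker (L x₂) := by simp [L]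
    rw [hker] at h0
    simpa [L, sub_eq_zero] using h0
  obtain ⟨s, hs⟩ := TensorProduct.exists_finset f
  let b : s → R := fun j => j.1.2
  let c : s → K := fun j => j.1.1
  have hF : ∀ (x : R →ₐ[k] K), MvPolynomial.aevalTower x c (nrm k H b) =
      (poly (∑ j, c j • Algebra.TensorProduct.map x (AlgHom.id k H) (co k H R (b j)))).coeff 0 := by
    intro x
    rw [← map_univ, ← map_poly, coeff_map]
    rfl
  have hev : ∀ (x : R →ₐ[k] K) (g : D →ₐ[K] K),
      g (∑ j, c j • Algebra.TensorProduct.map x (AlgHom.id k H) (co k H R (b j))) =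
        L ((Algebra.TensorProduct.lift x ((g.restrictScalars k).comp Algebra.TensorProduct.includeRight)
          fun _ _ => .all _ _).comp (co k H R)) f := by
    intro x g
    rw [hs, map_sum, map_sum, ← Finset.sum_coe_sort s fun i => L _ (i.1 ⊗ₜ[k] i.2)]
    refine Finset.sum_congr rfl fun j _ => ?_
    simp only [L, map_smul, Algebra.TensorProduct.lift_tmul, AlgHom.id_apply, AlgHom.comp_apply, smul_eq_mul, b, c]
    congr 1
    induction co k H R j.1.2 using TensorProduct.induction_on with
    | zero => simp
    | add u v hu hv => simp only [map_add, hu, hv]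
    | tmul r h =>
      simp only [Algebra.TensorProduct.map_tmul, AlgHom.id_apply, Algebra.TensorProduct.lift_tmul,
        AlgHom.comp_apply, AlgHom.restrictScalars_apply, Algebra.TensorProduct.includeRight_apply]
      rw [show x r ⊗ₜ[k] h = x r • ((1 : K) ⊗ₜ[k] h) by rw [TensorProduct.smul_tmul', smul_eq_mul, mul_one],
        map_smul, smul_eq_mul]
      rfl
  have hu : IsUnit (∑ j, c j • Algebra.TensorProduct.map x₁ (AlgHom.id k H) (co k H R (b j))) := by
    by_contra hnu
    obtain ⟨M, hM, hle⟩ := exists_max_ideal_of_mem_nonunits hnu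
    let e := AlgEquiv.ofBijective (Algebra.ofId K (D ⧸ M))
      (IsAlgClosed.algebraMap_bijective_of_isIntegral (k := K) (K := D ⧸ M))
    let g : D →ₐ[K] K := e.symm.toAlgHom.comp (Ideal.Quotient.mkₐ K M)
    refine hfψ g ((hev x₁ g).symm.trans ?_)
    simp only [g, AlgHom.comp_apply, Ideal.Quotient.mkₐ_eq_mk, Ideal.Quotient.eq_zero_iff_mem.2 hle, map_zero]
  have hnu : ¬ IsUnit (∑ j, c j • Algebra.TensorProduct.map x₂ (AlgHom.id k H) (co k H R (b j))) := by
    intro hu2
    let g : D →ₐ[K] K := Algebra.TensorProduct.lift (AlgHom.id K K)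
      ((Algebra.ofId k K).comp (Bialgebra.counitAlgHom k H)) fun _ _ => .all _ _
    have h0 := (hu2.map g).ne_zero
    rw [hev] at h0
    refine h0 ?_
    rw [show (Algebra.TensorProduct.lift x₂ ((g.restrictScalars k).comp Algebra.TensorProduct.includeRight)
        fun _ _ => .all _ _).comp (co k H R) = x₂ from ?_]
    · exact hf2
    · have hc : ∀ z : R ⊗[k] H,
          Algebra.TensorProduct.lift x₂ ((g.restrictScalars k).comp Algebra.TensorProduct.includeRight)
            (fun _ _ => .all _ _) z = x₂ (eps (k := k) (H := H) (R := R) z) := by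
        intro z
        induction z using TensorProduct.induction_on with
        | zero => simp
        | add u v hu hv => simp only [map_add, hu, hv]
        | tmul r h =>
          simp only [g, eps, Algebra.TensorProduct.lift_tmul, AlgHom.id_apply, AlgHom.comp_apply, map_mul]
          change x₂ r * (1 * _) = _
          simp
      exact AlgHom.ext fun r => (hc _).trans (congrArg x₂ (eps_co r))
  have h0 : (poly (∑ j, c j • Algebra.TensorProduct.map x₂ (AlgHom.id k H) (co k H R (b j)))).coeff 0 = 0 := by
    by_contra h0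
    exact hnu (isUnit_of_coeff_zero_ne h0)
  rw [← hF, ← aevalTower_nrm_eq b x₁ x₂ h, hF] at h0
  exact coeff_zero_poly_ne_zero hu h0

end Groth.L08.FinFlat
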